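import Groth.Agent.Lib.Helper23.ProjF.TensorBasis
import Groth.Agent.Lib.Helper8.ProjN
import Groth.Agent.Lib.Helper28.AmpleH1A
import Groth.Agent.Lib.Helper2.GSplit2

/-!
# The projection formula morphism `E ⊗ f_* G ⟶ f_* (f^* E ⊗ G)` (helper23)

It is an isomorphism for `E` finite locally free, and natural in `G`.
-/

set_option autoImplicit false
universe u
open CategoryTheory CategoryTheory.Limits AlgebraicGeometry Opposite TopologicalSpace MonoidalCategory
noncomputable section

namespace Groth.Agent.Lib.Helper23.ProjF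

open Groth.Agent.Lib.Helper28 Groth.Agent.Lib.Helper28.QCohLoc Groth.Agent.Lib.Helper28.TensorGen
  Groth.Agent.Lib.Helper28.PullbackInv Groth.Agent.Lib.Helper28.TensorIso
  Groth.Agent.Lib.Helper8.PullBasis Groth.Agent.Lib.Helper2.GSplit2

variable {X Y : Scheme.{u}} (f : X ⟶ Y) (E : Y.Modules) (G : X.Modules)

/-- the pairing `(e, g) ↦ f^* e ⊗ g` -/
def β (W : Y.Opens) (e : Γ(E, W)) (g : Γ((Scheme.Modules.pushforward f).obj G, W)) :
    Γ((Scheme.Modules.pushforward f).obj (CohB1.tensorMod ((Scheme.Modules.pullback f).obj E) G), W) :=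
  (tmulSec ((Scheme.Modules.pullback f).obj E) G (pbs f E W e) (show Γ(G, f ⁻¹ᵁ W) from g) :
    Γ(CohB1.tensorMod ((Scheme.Modules.pullback f).obj E) G, f ⁻¹ᵁ W))

theorem β_add₁ (W : Y.Opens) (e e' : Γ(E, W)) (g) :
    β f E G W (e + e') g = β f E G W e g + β f E G W e' g := by
  unfold β
  rw [pbs_add]
  exact tmulSec_add_left _ _ _ _ _

theorem β_add₂ (W : Y.Opens) (e : Γ(E, W)) (g g') :
    β f E G W e (g + g') = β f E G W e g + β f E G W e g' := by
  unfold β
  exact tmulSec_add_right _ _ _ _ _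

theorem β_smul₁ (W : Y.Opens) (c : Γ(Y, W)) (e : Γ(E, W)) (g) :
    β f E G W (c • e) g = c • β f E G W e g := by
  unfold β
  rw [pbs_smul]
  exact tmulSec_smul_left _ _ (f.app W c) _ _

theorem β_smul₂ (W : Y.Opens) (c : Γ(Y, W)) (e : Γ(E, W)) (g) :
    β f E G W e (c • g) = c • β f E G W e g := by
  unfold β
  exact tmulSec_smul_right _ _ (f.app W c) _ _

theorem β_res (W W' : Y.Opens) (h : W' ≤ W) (e : Γ(E, W)) (g) :
    β f E G W' (res E h e) (res _ h g) = res _ h (β f E G W e g) := by
  unfold β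
  rw [pbs_res]
  exact (tmulSec_res ((Scheme.Modules.pullback f).obj E) G (f.preimage_mono h) (pbs f E W e)
    (show Γ(G, f ⁻¹ᵁ W) from g)).symm

/-- the presheaf-level projection morphism -/
def projPre : (show Y.PresheafOfModules from
      CohB1.tensorPre E ((Scheme.Modules.pushforward f).obj G)) ⟶
    (PresheafOfModules.restrictScalars (𝟙 Y.ringCatSheaf.obj)).obj
      ((Scheme.Modules.pushforward f).obj
        (CohB1.tensorMod ((Scheme.Modules.pullback f).obj E) G)).val :=
  tensorDesc E ((Scheme.Modules.pushforward f).obj G)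
    ((Scheme.Modules.pushforward f).obj (CohB1.tensorMod ((Scheme.Modules.pullback f).obj E) G))
    (β f E G) (β_add₁ f E G) (β_add₂ f E G) (β_smul₁ f E G) (β_smul₂ f E G) (β_res f E G)

/-- **the projection formula morphism** `E ⊗ f_* G ⟶ f_* (f^* E ⊗ G)` -/
def projMap : CohB1.tensorMod E ((Scheme.Modules.pushforward f).obj G) ⟶
    (Scheme.Modules.pushforward f).obj (CohB1.tensorMod ((Scheme.Modules.pullback f).obj E) G) :=
  TensorIso.lift _ _ (projPre f E G)

theorem projMap_tmulSec {W : Y.Opens} (e : Γ(E, W)) (g : Γ((Scheme.Modules.pushforward f).obj G, W)) :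
    (projMap f E G).app W (tmulSec E ((Scheme.Modules.pushforward f).obj G) e g) = β f E G W e g := by
  unfold projMap tmulSec ηT
  exact AmpleH1.lift_app_unit _ _ _ W (ptmul E ((Scheme.Modules.pushforward f).obj G) e g)

/-- **the projection formula morphism is an isomorphism for `E` finite locally free** -/
theorem isIso_projMap (hE : FlatMod.IsFinLocFree E) : IsIso (projMap f E G) := by
  refine isIso_lift _ _ (projPre f E G)
    (fun W => ∃ (n : ℕ) (τ : Fin n → Γ(E, W)), IsFreeBasisOn E W τ) ?_ ?_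
  · intro U x hx
    obtain ⟨U₀, n, hxU₀, ⟨e⟩⟩ := hE x
    obtain ⟨τ, hτ⟩ := exists_isFreeBasisOn_of_iso E U₀ n e
    exact ⟨U₀ ⊓ U, ⟨n, _, hτ.mono inf_le_left⟩, ⟨hxU₀, hx⟩, inf_le_right⟩
  · rintro W ⟨n, τ, hτ⟩
    refine Groth.Agent.Lib.Helper8.ProjN.lift_bijective_of_left_basis
      (LinearMap.mk₂ _ (β f E G W) (β_add₁ f E G W) (β_smul₁ f E G W)
      (β_add₂ f E G W) (β_smul₂ f E G W)) τ ?_ ?_
    · intro m
      obtain ⟨c, hc⟩ := (hτ W le_rfl).2 m
      refine ⟨c, hc.symm.trans (Finset.sum_congr rfl fun j _ => ?_)⟩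
      rw [res_self]
    · exact tmulSec_sum_bijective (A := (Scheme.Modules.pullback f).obj E) (B := G)
        (isFreeBasisOn_pbs (f := f) hτ)

/-- morphisms out of a tensor product are determined by their values on the sections `m ⊗ n` -/
theorem tensorMod_hom_ext {Z : Scheme.{u}} {M N F : Z.Modules} (φ ψ : CohB1.tensorMod M N ⟶ F)
    (h : ∀ (W : Z.Opens) (m : Γ(M, W)) (n : Γ(N, W)),
      φ.app W (tmulSec M N m n) = ψ.app W (tmulSec M N m n)) : φ = ψ := by
  apply ((PresheafOfModules.sheafificationAdjunction (𝟙 Z.ringCatSheaf.obj)).homEquiv _ _).injective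
  rw [Adjunction.homEquiv_unit, Adjunction.homEquiv_unit]
  apply PresheafOfModules.hom_ext
  intro W
  refine ModuleCat.MonoidalCategory.tensor_ext (fun m n => ?_)
  exact h W.unop m n

theorem TL_map_tmulSec {Z : Scheme.{u}} (E : Z.Modules) {M M' : Z.Modules} (φ : M ⟶ M')
    {W : Z.Opens} (e : Γ(E, W)) (m : Γ(M, W)) :
    ((TL E).map φ).app W (tmulSec E M e m) = tmulSec E M' e (φ.app W m) := by
  have hnat := (PresheafOfModules.sheafificationAdjunction (𝟙 Z.ringCatSheaf.obj)).unit.naturality
    (show (CohB1.tensorPre E M : Z.PresheafOfModules) ⟶ (CohB1.tensorPre E M' : Z.PresheafOfModules) from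
      (CohB1.toPMod E ◁ (show CohB1.toPMod M ⟶ CohB1.toPMod M' from φ.val)))
  have h2 := congrArg (fun ψ => (ψ.app (op W)) (ptmul E M e m)) hnat
  exact h2.symm

variable {G} in
theorem projMap_naturality {G' : X.Modules} (g : G ⟶ G') :
    (TL E).map ((Scheme.Modules.pushforward f).map g) ≫ projMap f E G' =
      projMap f E G ≫ (Scheme.Modules.pushforward f).map
        ((TL ((Scheme.Modules.pullback f).obj E)).map g) := by
  apply tensorMod_hom_ext
  intro W e s
  show (projMap f E G').app W (((TL E).map ((Scheme.Modules.pushforward f).map g)).app W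
      (tmulSec E ((Scheme.Modules.pushforward f).obj G) e s)) =
    ((Scheme.Modules.pushforward f).map ((TL ((Scheme.Modules.pullback f).obj E)).map g)).app W
      ((projMap f E G).app W (tmulSec E ((Scheme.Modules.pushforward f).obj G) e s))
  rw [TL_map_tmulSec, projMap_tmulSec, projMap_tmulSec]
  unfold β
  exact (TL_map_tmulSec ((Scheme.Modules.pullback f).obj E) g (pbs f E W e)
    (show Γ(G, f ⁻¹ᵁ W) from s)).symm

/-- **the projection formula, as a natural isomorphism** `E ⊗ f_* (-) ≅ f_* (f^* E ⊗ -)` -/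
def projNatIso (hE : FlatMod.IsFinLocFree E) :
    Scheme.Modules.pushforward f ⋙ TL E ≅
      TL ((Scheme.Modules.pullback f).obj E) ⋙ Scheme.Modules.pushforward f :=
  NatIso.ofComponents (fun G => @asIso _ _ _ _ (projMap f E G) (isIso_projMap f E G hE))
    (fun g => projMap_naturality f E g)

end Groth.Agent.Lib.Helper23.ProjF
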