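import Groth.Agent.Lib.Helper23.ProjF.TensorBasis

/-!
# Locally flasque modules are flasque; `E ⊗ I` is flasque for `E` finite locally free, `I` flasque
(helper23)
-/

set_option autoImplicit false
universe u
open CategoryTheory CategoryTheory.Limits AlgebraicGeometry Opposite TopologicalSpace
noncomputable section

namespace Groth.Agent.Lib.Helper23.ProjF

open Groth.Agent.Lib.Helper28.QCohLoc Groth.Agent.Lib.Helper28.TensorGen
  Groth.Agent.Lib.Helper8.PullBasis

variable {X : Scheme.{u}}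

/-- all restriction maps between opens inside `U` are surjective -/
def IsFlasqueBelow (M : X.Modules) (U : X.Opens) : Prop :=
  ∀ (W W' : X.Opens) (h : W' ≤ W), W ≤ U → Function.Surjective (res M h)

section Zorn

variable (M : X.Modules) (V : X.Opens) (s : Γ(M, V))

/-- extensions of a section to larger opens -/
structure Ext where
  W : X.Opens
  hW : V ≤ W
  t : Γ(M, W)
  ht : res M hW t = s

instance : Preorder (Ext M V s) where
  le e₁ e₂ := ∃ h : e₁.W ≤ e₂.W, res M h e₂.t = e₁.t
  le_refl e := ⟨le_rfl, res_self M _⟩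
  le_trans a b c := fun ⟨h1, h1'⟩ ⟨h2, h2'⟩ => ⟨h1.trans h2, by rw [← res_res M h2 h1, h2', h1']⟩

theorem Ext.le_def (e₁ e₂ : Ext M V s) : e₁ ≤ e₂ ↔ ∃ h : e₁.W ≤ e₂.W, res M h e₂.t = e₁.t := Iff.rfl

theorem Ext.bddAbove (c : Set (Ext M V s)) (hc : IsChain (· ≤ ·) c) : BddAbove c := by
  let Vf : Option c → X.Opens := fun i => match i with
    | none => V
    | some e => e.1.W
  let sf : ∀ i : Option c, Γ(M, Vf i) := fun i => match i with
    | none => s
    | some e => e.1.t
  have compat : ∀ i j, res M (inf_le_left : Vf i ⊓ Vf j ≤ Vf i) (sf i) =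
      res M (inf_le_right : Vf i ⊓ Vf j ≤ Vf j) (sf j) := by
    intro i j
    match i, j with
    | none, none => rfl
    | none, some e =>
      show res M _ s = res M _ e.1.t
      have h0 := e.1.ht
      have h1 := congrArg (res M (inf_le_left : V ⊓ e.1.W ≤ V)) h0
      rw [res_res] at h1
      exact h1.symm
    | some e, none =>
      show res M _ e.1.t = res M _ s
      have h0 := e.1.ht
      have h1 := congrArg (res M (inf_le_right : e.1.W ⊓ V ≤ V)) h0
      rw [res_res] at h1
      exact h1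
    | some e₁, some e₂ =>
      show res M _ e₁.1.t = res M _ e₂.1.t
      rcases hc.total e₁.2 e₂.2 with h | h
      · obtain ⟨h1, h2⟩ := h
        rw [← h2, res_res]
      · obtain ⟨h1, h2⟩ := h
        rw [← h2, res_res]
  obtain ⟨x, hx⟩ := exists_gluing M Vf (iSup Vf) (fun i => le_iSup Vf i) le_rfl sf compat
  refine ⟨⟨iSup Vf, le_iSup Vf none, x, hx none⟩, ?_⟩
  intro e he
  exact ⟨le_iSup Vf (some ⟨e, he⟩), hx (some ⟨e, he⟩)⟩

end Zorn

/-- gluing two sections -/
theorem exists_glue_pair (M : X.Modules) (U₁ U₂ : X.Opens) (s₁ : Γ(M, U₁)) (s₂ : Γ(M, U₂))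
    (h : res M (inf_le_left : U₁ ⊓ U₂ ≤ U₁) s₁ = res M (inf_le_right : U₁ ⊓ U₂ ≤ U₂) s₂) :
    ∃ t : Γ(M, U₁ ⊔ U₂), res M le_sup_left t = s₁ ∧ res M le_sup_right t = s₂ := by
  let Vf : Bool → X.Opens := fun b => match b with
    | true => U₁
    | false => U₂
  let sf : ∀ b : Bool, Γ(M, Vf b) := fun b => match b with
    | true => s₁
    | false => s₂
  have hle : ∀ b, Vf b ≤ U₁ ⊔ U₂ := fun b => match b with
    | true => le_sup_left
    | false => le_sup_right
  have hcover : U₁ ⊔ U₂ ≤ iSup Vf := sup_le (le_iSup Vf true) (le_iSup Vf false)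
  have compat : ∀ i j, res M (inf_le_left : Vf i ⊓ Vf j ≤ Vf i) (sf i) =
      res M (inf_le_right : Vf i ⊓ Vf j ≤ Vf j) (sf j) := by
    intro i j
    match i, j with
    | true, true => rfl
    | false, false => rfl
    | true, false => exact h
    | false, true =>
      show res M _ s₂ = res M _ s₁
      have e : U₂ ⊓ U₁ ≤ U₁ ⊓ U₂ := le_of_eq (inf_comm _ _)
      have h' := congrArg (res M e) h
      rw [res_res, res_res] at h'
      exact h'.symm
  obtain ⟨x, hx⟩ := exists_gluing M Vf (U₁ ⊔ U₂) hle hcover sf compat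
  exact ⟨x, hx true, hx false⟩

/-- a locally flasque module is flasque: every section extends to a global section -/
theorem exists_extension_of_locally (M : X.Modules)
    (hloc : ∀ x : X, ∃ U : X.Opens, x ∈ U ∧ IsFlasqueBelow M U) (V : X.Opens) (s : Γ(M, V)) :
    ∃ t : Γ(M, (⊤ : X.Opens)), res M le_top t = s := by
  obtain ⟨m, hm⟩ := zorn_le (Ext.bddAbove M V s)
  have htop : m.W = ⊤ := by
    rw [eq_top_iff]
    intro x _
    obtain ⟨U, hxU, hU⟩ := hloc x
    obtain ⟨t', ht'⟩ := hU U (m.W ⊓ U) inf_le_right le_rfl (res M inf_le_left m.t)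
    obtain ⟨y, hy1, hy2⟩ := exists_glue_pair M m.W U m.t t' ht'.symm
    let m' : Ext M V s := ⟨m.W ⊔ U, m.hW.trans le_sup_left, y, by
      rw [← res_res M le_sup_left m.hW, hy1, m.ht]⟩
    have hle : m ≤ m' := ⟨le_sup_left, hy1⟩
    obtain ⟨h1, -⟩ := hm hle
    exact h1 (Or.inr hxU)
  obtain ⟨W, hW, t, ht⟩ := m
  subst htop
  exact ⟨t, ht⟩

theorem surjective_res_of_isFlasque (I : X.Modules) (hI : TopCat.Sheaf.IsFlasque (Coh.toAb I))
    {W W' : X.Opens} (h : W' ≤ W) : Function.Surjective (res I h) := by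
  have h1 : Epi ((Coh.toAb I).obj.map (homOfLE h).op) := TopCat.Presheaf.IsFlasque.epi _
  exact (AddCommGrpCat.epi_iff_surjective _).1 h1

theorem isFlasque_of_locally (M : X.Modules)
    (hloc : ∀ x : X, ∃ U : X.Opens, x ∈ U ∧ IsFlasqueBelow M U) :
    TopCat.Sheaf.IsFlasque (Coh.toAb M) where
  epi {U V} i := by
    rw [AddCommGrpCat.epi_iff_surjective]
    intro s
    obtain ⟨t, ht⟩ := exists_extension_of_locally M hloc V.unop s
    refine ⟨res M le_top t, ?_⟩
    have hVU : V.unop ≤ U.unop := leOfHom i.unop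
    have := res_res M (le_top : U.unop ≤ ⊤) hVU t
    exact this.trans ht

/-- `E ⊗ I` is flasque below an open on which `E` has a free basis, if `I` is flasque -/
theorem isFlasqueBelow_tensor (E I : X.Modules) {U : X.Opens} {n : ℕ} {σ : Fin n → Γ(E, U)}
    (hσ : IsFreeBasisOn E U σ)
    (hI : ∀ (W W' : X.Opens) (h : W' ≤ W), Function.Surjective (res I h)) :
    IsFlasqueBelow (CohB1.tensorMod E I) U := by
  intro W W' h hWU t'
  obtain ⟨b', hb'⟩ := (tmulSec_sum_bijective (B := I) (hσ.mono (h.trans hWU))).2 t'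
  choose b hb using fun j => hI W W' h (b' j)
  refine ⟨∑ j, tmulSec E I (res E hWU (σ j)) (b j), ?_⟩
  rw [res_sum_tmulSec]
  simp only [res_res, hb]
  exact hb'

/-- **`E ⊗ I` is flasque for `E` finite locally free and `I` flasque** -/
theorem isFlasque_tensor (E I : X.Modules) (hE : FlatMod.IsFinLocFree E)
    (hI : TopCat.Sheaf.IsFlasque (Coh.toAb I)) :
    TopCat.Sheaf.IsFlasque (Coh.toAb (CohB1.tensorMod E I)) := by
  apply isFlasque_of_locally
  intro x
  obtain ⟨U, n, hxU, ⟨e⟩⟩ := hE x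
  obtain ⟨τ, hτ⟩ := exists_isFreeBasisOn_of_iso E U n e
  exact ⟨U, hxU, isFlasqueBelow_tensor E I hτ (fun W W' h => surjective_res_of_isFlasque I hI h)⟩

end Groth.Agent.Lib.Helper23.ProjF
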