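import Groth.Agent.Lib.Helper23.ProjF.Main
import Groth.Agent.Lib.Helper28.RelTildeMap
import Groth.Agent.Lib.Helper28.ModExact
import Groth.Agent.Lib.Helper1.ModFlatMore

/-!
# `E ⊗ I` is injective for `E` finite locally free and `I` injective (helper23)
-/

set_option autoImplicit false
universe u
open CategoryTheory CategoryTheory.Limits AlgebraicGeometry Opposite TopologicalSpace
noncomputable section

namespace Groth.Agent.Lib.Helper23.ProjF

open Groth.Agent.Lib.Helper28 Groth.Agent.Lib.Helper28.QCohLoc Groth.Agent.Lib.Helper28.TensorGen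
  Groth.Agent.Lib.Helper28.PullbackInv Groth.Agent.Lib.Helper28.TensorIso
  Groth.Agent.Lib.Helper8.PullBasis Groth.Agent.Lib.Helper2.GSplit2

variable {X : Scheme.{u}}

/-- a retract of an injective object is injective -/
theorem injective_of_retract {𝒜 : Type*} [Category 𝒜] {A Q : 𝒜} (i : A ⟶ Q) (r : Q ⟶ A)
    (h : i ≫ r = 𝟙 A) [Injective Q] : Injective A :=
  ⟨fun g f _ => ⟨Injective.factorThru (g ≫ i) f ≫ r, by
    rw [← Category.assoc, Injective.comp_factorThru, Category.assoc, h, Category.comp_id]⟩⟩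

section Products

variable {ι : Type u} (N : ι → X.Modules)

/-- sections of a product are families of sections -/
theorem pi_sections_bijective (W : X.Opens) :
    Function.Bijective (fun (q : Γ(∏ᶜ N, W)) (i : ι) => (Pi.π N i).app W q) := by
  let G := SheafOfModules.evaluation.{u} X.ringCatSheaf (op W) ⋙ forget (ModuleCat _)
  have hl : IsLimit (G.mapCone (limit.cone (Discrete.functor N))) :=
    isLimitOfPreserves G (limit.isLimit _)
  have key := (Types.isLimit_iff _).1 ⟨hl⟩
  constructor
  · intro q q' hqq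
    let s : (Discrete.functor N ⋙ G).sections :=
      ⟨fun j => (G.mapCone (limit.cone (Discrete.functor N))).π.app j q, fun {j j'} f => by
        have := (G.mapCone (limit.cone (Discrete.functor N))).w f
        exact ConcreteCategory.congr_hom this q⟩
    obtain ⟨x, -, hx⟩ := key s.1 s.2
    have h1 : q = x := hx q (fun j => rfl)
    have h2 : q' = x := hx q' (fun j => by
      obtain ⟨i⟩ := j
      exact (congrFun hqq i).symm)
    exact h1.trans h2.symm
  · intro b
    have hs : (fun j : Discrete ι => (b j.as : (Discrete.functor N ⋙ G).obj j)) ∈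
        (Discrete.functor N ⋙ G).sections := by
      rintro ⟨i⟩ ⟨i'⟩ f
      obtain rfl : i = i' := Discrete.eq_of_hom f
      obtain rfl : f = 𝟙 _ := Subsingleton.elim _ _
      simp
    obtain ⟨x, hx, -⟩ := key _ hs
    exact ⟨x, funext fun i => hx ⟨i⟩⟩

/-- the comparison `E ⊗ ∏ N_i ⟶ ∏ (E ⊗ N_i)` -/
def prodCmp (E : X.Modules) : CohB1.tensorMod E (∏ᶜ N) ⟶ ∏ᶜ fun i => CohB1.tensorMod E (N i) :=
  Pi.lift fun i => (TL E).map (Pi.π N i)

theorem prodCmp_π_app (E : X.Modules) (i : ι) (W : X.Opens) (t : Γ(CohB1.tensorMod E (∏ᶜ N), W)) :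
    (Pi.π (fun i => CohB1.tensorMod E (N i)) i).app W ((prodCmp N E).app W t) =
      ((TL E).map (Pi.π N i)).app W t := by
  have h : prodCmp N E ≫ Pi.π (fun i => CohB1.tensorMod E (N i)) i = (TL E).map (Pi.π N i) :=
    Pi.lift_π _ i
  exact congrArg (fun φ => (Scheme.Modules.Hom.app φ W) t) h

theorem TL_map_sum_tmulSec (E : X.Modules) {M M' : X.Modules} (φ : M ⟶ M') {W : X.Opens} {n : ℕ}
    (e : Fin n → Γ(E, W)) (m : Fin n → Γ(M, W)) :
    ((TL E).map φ).app W (∑ j, tmulSec E M (e j) (m j)) = ∑ j, tmulSec E M' (e j) (φ.app W (m j)) := by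
  have := map_sum (ConcreteCategory.hom (((TL E).map φ).app W)) (fun j => tmulSec E M (e j) (m j))
    Finset.univ
  refine this.trans ?_
  exact Finset.sum_congr rfl fun j _ => TL_map_tmulSec E φ (e j) (m j)

/-- **tensoring with a finite locally free module commutes with products** -/
theorem isIso_prodCmp (E : X.Modules) (hE : FlatMod.IsFinLocFree E) : IsIso (prodCmp N E) := by
  refine isIso_of_bijective_on_basis (prodCmp N E)
    (fun W => ∃ (n : ℕ) (τ : Fin n → Γ(E, W)), IsFreeBasisOn E W τ) ?_ ?_
  · intro U x hx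
    obtain ⟨U₀, n, hxU₀, ⟨e⟩⟩ := hE x
    obtain ⟨τ, hτ⟩ := exists_isFreeBasisOn_of_iso E U₀ n e
    exact ⟨U₀ ⊓ U, ⟨n, _, hτ.mono inf_le_left⟩, ⟨hxU₀, hx⟩, inf_le_right⟩
  · rintro W ⟨n, τ, hτ⟩
    constructor
    · intro t t' htt
      obtain ⟨b, rfl⟩ := (tmulSec_sum_bijective (B := ∏ᶜ N) hτ).2 t
      obtain ⟨b', rfl⟩ := (tmulSec_sum_bijective (B := ∏ᶜ N) hτ).2 t'
      have hb : b = b' := by
        funext j
        apply (pi_sections_bijective N W).1
        funext i
        have h1 := congrArg (fun y => (Pi.π (fun i => CohB1.tensorMod E (N i)) i).app W y) htt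
        have h2 := (TL_map_sum_tmulSec E (Pi.π N i) τ b).symm.trans
          (((prodCmp_π_app N E i W _).symm.trans h1).trans
            ((prodCmp_π_app N E i W _).trans (TL_map_sum_tmulSec E (Pi.π N i) τ b')))
        exact congrFun (tmulSec_sum_injective (B := N i) hτ _ _ h2) j
      rw [hb]
    · intro y
      have hy : ∀ i, ∃ b : Fin n → Γ(N i, W),
          ∑ j, tmulSec E (N i) (τ j) (b j) = (Pi.π (fun i => CohB1.tensorMod E (N i)) i).app W y :=
        fun i => (tmulSec_sum_bijective (B := N i) hτ).2 _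
      choose b hb using hy
      have hq : ∀ j, ∃ q : Γ(∏ᶜ N, W), ∀ i, (Pi.π N i).app W q = b i j := by
        intro j
        obtain ⟨q, hq⟩ := (pi_sections_bijective N W).2 (fun i => b i j)
        exact ⟨q, fun i => congrFun hq i⟩
      choose q hq using hq
      refine ⟨∑ j, tmulSec E (∏ᶜ N) (τ j) (q j), ?_⟩
      apply (pi_sections_bijective (fun i => CohB1.tensorMod E (N i)) W).1
      funext i
      show (Pi.π (fun i => CohB1.tensorMod E (N i)) i).app W ((prodCmp N E).app W _) = _
      refine (prodCmp_π_app N E i W _).trans ((TL_map_sum_tmulSec E (Pi.π N i) τ q).trans ?_)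
      simp only [hq]
      exact hb i

end Products

section Free

open Groth.Agent.Lib.Helper1.ModFlat Groth.Agent.Lib.Helper1.TensorUnit

/-- a finite coproduct of injectives is injective -/
theorem injective_sigma_fin {𝒜 : Type*} [Category 𝒜] [Abelian 𝒜] (n : ℕ) (J : 𝒜) [Injective J] :
    Injective (∐ fun _ : Fin n => J) := by
  haveI : HasFiniteBiproducts 𝒜 := Abelian.hasFiniteBiproducts
  let e : (∐ fun _ : Fin n => J) ≅ ∏ᶜ fun _ : Fin n => J :=
    (biproduct.isoCoproduct (fun _ : Fin n => J)).symm ≪≫ biproduct.isoProduct (fun _ : Fin n => J)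
  exact Injective.of_iso e.symm inferInstance

/-- `O^n ⊗ J ≅ J^n` -/
def freeTensorIso (n : ℕ) (J : X.Modules) :
    CohB1.tensorMod (FlatMod.freeMod X n) J ≅ ∐ fun _ : Fin n => J :=
  PreservesCoproduct.iso (tens X.sheaf J) (fun _ : Fin n => Coh.structureModule X) ≪≫
    Sigma.mapIso (fun _ : Fin n => leftUnitIso X.sheaf J)

/-- `F ⊗ J` is injective for `F` free of finite rank and `J` injective -/
theorem injective_tensor_of_iso_free (F J : X.Modules) [Injective J] (n : ℕ)
    (e : F ≅ FlatMod.freeMod X n) : Injective (CohB1.tensorMod F J) := by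
  haveI := injective_sigma_fin n J
  let e1 : CohB1.tensorMod F J ≅ CohB1.tensorMod (FlatMod.freeMod X n) J :=
    (DCoh.tensorBi.mapIso e).app J
  exact Injective.of_iso (e1 ≪≫ freeTensorIso n J).symm inferInstance

end Free

/-- **`E ⊗ I` is injective for `E` finite locally free and `I` injective** -/
theorem injective_tensor (I E : X.Modules) [Injective I] (hE : FlatMod.IsFinLocFree E) :
    Injective (CohB1.tensorMod E I) := by
  have hE' := hE
  choose U n hxU he using hE
  let Jx : ∀ x : X, (↑(U x) : Scheme.{u}).Modules := fun x => Injective.under (I.restrict (U x).ι)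
  let Px : X → X.Modules := fun x => (Scheme.Modules.pushforward (U x).ι).obj (Jx x)
  let m : I ⟶ ∏ᶜ Px := Pi.lift fun x => (cutUnit (U x) I).hom ≫
    (Scheme.Modules.pushforward (U x).ι).map (Injective.ι (I.restrict (U x).ι))
  haveI : Mono m := by
    apply mono_of_injective
    intro W s s' hss
    refine eq_of_locally_eq I (fun x : W => cut (U x.1) W) W (fun x => cut_le_left _ _) ?_ s s'
      (fun x => ?_)
    · intro y hy
      refine Opens.mem_iSup.2 ⟨⟨y, hy⟩, ?_⟩
      rw [cut_eq_inf]
      exact ⟨hxU y, hy⟩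
    · have h1 := congrArg (fun t => (Pi.π Px x.1).app W t) hss
      have hm : m ≫ Pi.π Px x.1 = (cutUnit (U x.1) I).hom ≫
          (Scheme.Modules.pushforward (U x.1).ι).map (Injective.ι (I.restrict (U x.1).ι)) :=
        Pi.lift_π _ _
      have h2 : ∀ t : Γ(I, W), (Pi.π Px x.1).app W (m.app W t) =
          ((Scheme.Modules.pushforward (U x.1).ι).map (Injective.ι (I.restrict (U x.1).ι))).app W
            ((cutUnit (U x.1) I).hom.app W t) :=
        fun t => congrArg (fun φ => (Scheme.Modules.Hom.app φ W) t) hm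
      have h3 := (h2 s).symm.trans (h1.trans (h2 s'))
      have hinj := injective_of_mono (Injective.ι (I.restrict (U x.1).ι)) inferInstance
        ((U x.1).ι ⁻¹ᵁ W)
      have h4 : (cutUnit (U x.1) I).hom.app W s = (cutUnit (U x.1) I).hom.app W s' := hinj h3
      rw [(cutUnit (U x.1) I).hom_app W trivial, (cutUnit (U x.1) I).hom_app W trivial] at h4
      exact h4
  haveI : ∀ x, Injective (Px x) := fun x =>
    Injective.injective_of_adjoint (Scheme.Modules.restrictAdjunction (U x).ι) (Jx x)
  let r := Injective.factorThru (𝟙 I) m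
  have hr : m ≫ r = 𝟙 I := Injective.comp_factorThru _ _
  haveI : IsIso (prodCmp Px E) := isIso_prodCmp Px E hE'
  haveI : ∀ x, Injective (CohB1.tensorMod E (Px x)) := fun x => by
    obtain ⟨e⟩ := he x
    haveI : Injective (CohB1.tensorMod ((Scheme.Modules.pullback (U x).ι).obj E) (Jx x)) :=
      injective_tensor_of_iso_free _ _ (n x)
        (((Scheme.Modules.restrictFunctorIsoPullback (U x).ι).app E).symm ≪≫ e)
    have hJ : Injective ((Scheme.Modules.pushforward (U x).ι).obj
        (CohB1.tensorMod ((Scheme.Modules.pullback (U x).ι).obj E) (Jx x))) :=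
      Injective.injective_of_adjoint (Scheme.Modules.restrictAdjunction (U x).ι)
        (CohB1.tensorMod ((Scheme.Modules.pullback (U x).ι).obj E) (Jx x))
    exact Injective.of_iso ((projNatIso (U x).ι E hE').app (Jx x)).symm hJ
  have hprod : Injective (∏ᶜ fun x => CohB1.tensorMod E (Px x)) := inferInstance
  have hP : Injective ((TL E).obj (∏ᶜ Px)) :=
    Injective.of_iso (asIso (prodCmp Px E)).symm hprod
  have hret : (TL E).map m ≫ (TL E).map r = 𝟙 ((TL E).obj I) := by
    rw [← Functor.map_comp, hr]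
    exact (TL E).map_id I
  exact @injective_of_retract _ _ _ _ ((TL E).map m) ((TL E).map r) hret hP

end Groth.Agent.Lib.Helper23.ProjF
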