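import Groth.Agent.Lib.Helper23.ProjF.ProjMap
import Groth.Agent.Lib.Helper23.ProjF.Flasque
import Groth.Agent.Lib.Helper2.RpushQC4
import Groth.Agent.Lib.Helper16.RS6
import Groth.Agent.Lib.Helper16.RS7
import Groth.Agent.Lib.Helper6.RDShift

/-!
# The projection formula `E ⊗ R^q f_* F ≅ R^q f_* (f^* E ⊗ F)` for `E` finite locally free (helper23)
-/

set_option autoImplicit false
universe u
open CategoryTheory CategoryTheory.Limits AlgebraicGeometry Opposite TopologicalSpace
noncomputable section

namespace Groth.Agent.Lib.Helper23.ProjF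

open Groth.Agent.Lib.Helper2.GSplit2 Groth.Agent.Lib.Helper1.ModFlat
  Groth.Agent.Lib.Helper6.DeltaCompare Groth.Agent.Lib.Helper6.RDShift

variable {X Y : Scheme.{u}}

instance (E : X.Modules) : PreservesFiniteColimits (TL E) :=
  inferInstanceAs (PreservesFiniteColimits (tensL X.sheaf E))

/-- `E ⊗ -` is exact for flat `E` -/
theorem preservesFiniteLimits_TL (E : X.Modules) (hE : FlatMod.IsFlat E) :
    PreservesFiniteLimits (TL E) := by
  rw [Functor.preservesFiniteLimits_iff_forall_exact_map_and_mono]
  intro S hS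
  have h30 := (Functor.preservesFiniteColimits_tfae (TL E)).out 3 0
  have hex := h30.1 inferInstance S hS
  haveI := hS.mono_f
  exact ⟨hex.1, mono_TL_map E hE S.f⟩

instance (f : X ⟶ Y) : PreservesFiniteLimits (Scheme.Modules.pushforward f) :=
  (Scheme.Modules.pullbackPushforwardAdjunction f).rightAdjoint_preservesLimits.{0, 0}.preservesFiniteLimits

theorem projection_formula (f : X ⟶ Y) (F : X.Modules) (E : Y.Modules)
    (hE : FlatMod.IsFinLocFree E) (q : ℕ) :
    Nonempty (CohB1.tensorMod E (((Scheme.Modules.pushforward f).rightDerived q).obj F) ≅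
      ((Scheme.Modules.pushforward f).rightDerived q).obj
        (CohB1.tensorMod ((Scheme.Modules.pullback f).obj E) F)) := by
  have hE' : FlatMod.IsFinLocFree ((Scheme.Modules.pullback f).obj E) :=
    Groth.Agent.Lib.Helper16.RS.isFinLocFree_pullback f E hE
  haveI : PreservesFiniteLimits (TL E) :=
    preservesFiniteLimits_TL E (Groth.Agent.Lib.Helper16.RS.isFlat_of_isFinLocFree E hE)
  haveI : PreservesFiniteLimits (TL ((Scheme.Modules.pullback f).obj E)) :=
    preservesFiniteLimits_TL _ (Groth.Agent.Lib.Helper16.RS.isFlat_of_isFinLocFree _ hE')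
  let Φ := Scheme.Modules.pushforward f
  let θ : Φ.rightDerived 0 ⋙ TL E ≅ TL ((Scheme.Modules.pullback f).obj E) ⋙ Φ.rightDerived 0 :=
    Functor.isoWhiskerRight Φ.rightDerivedZeroIsoSelf (TL E) ≪≫ projNatIso f E hE ≪≫
      Functor.isoWhiskerLeft (TL ((Scheme.Modules.pullback f).obj E)) Φ.rightDerivedZeroIsoSelf.symm
  refine delta_compare (fun n => Φ.rightDerived n ⋙ TL E)
    (fun n => TL ((Scheme.Modules.pullback f).obj E) ⋙ Φ.rightDerived n) θ (fun _ => True) ?_ q F trivial
  intro G _
  let S : ShortComplex X.Modules :=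
    ShortComplex.mk (Injective.ι G) (cokernel.π (Injective.ι G)) (cokernel.condition _)
  have hS : S.ShortExact :=
    { exact := ShortComplex.exact_cokernel (Injective.ι G)
      mono_f := inferInstanceAs (Mono (Injective.ι G))
      epi_g := inferInstanceAs (Epi (cokernel.π (Injective.ι G))) }
  refine ⟨Injective.under G, cokernel (Injective.ι G), Injective.ι G, cokernel.π (Injective.ι G),
    trivial, ?_, ?_⟩
  · have h1 : HasShift (fun n => Φ.rightDerived n) S.f S.g := hasShift_rightDerived Φ S hS
      (fun n => Functor.isZero_rightDerived_obj_injective_succ Φ n (Injective.under G))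
    exact HasShift.comp_exact h1 (TL E)
  · refine hasShift_comp_rightDerived Φ (TL ((Scheme.Modules.pullback f).obj E)) S
      (hS.map_of_exact _) (fun n => ?_)
    exact Groth.Agent.Lib.Helper2.RpushQC4.isZero_Rpush_of_flasque f _
      (isFlasque_tensor _ _ hE'
        (Groth.Agent.Lib.Helper2.PushEdge3.isFlasque_of_injective (Injective.under G))) n

end Groth.Agent.Lib.Helper23.ProjF
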