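import Groth.Agent.Lib.Helper8.PullBasis
import Groth.Agent.Lib.Helper28.TensorGen

/-!
# Sections of `A ⊗ B` over an open on which `A` has a free basis (helper23)

If `σ` is a free basis of sections of `A` over `U`, then `(b_j) ↦ ∑ σ_j ⊗ b_j` is a bijection
`Γ(B, U)^n ≃ Γ(A ⊗ B, U)`.
-/

set_option autoImplicit false
universe u
open CategoryTheory CategoryTheory.Limits AlgebraicGeometry Opposite TopologicalSpace MonoidalCategory
noncomputable section

namespace Groth.Agent.Lib.Helper23.ProjF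

open Groth.Agent.Lib.Helper28.QCohLoc Groth.Agent.Lib.Helper28.TensorGen
  Groth.Agent.Lib.Helper8.PullBasis

section Algebra

open TensorProduct

variable {R M N : Type*} [CommRing R] [AddCommGroup M] [AddCommGroup N] [Module R M] [Module R N]

/-- a family which freely generates gives a basis -/
def basisOfBijective {n : ℕ} (e : Fin n → M)
    (he : Function.Bijective (fun c : Fin n → R => ∑ j, c j • e j)) : Module.Basis (Fin n) R M :=
  Module.Basis.ofEquivFun (LinearEquiv.ofBijective (Fintype.linearCombination R e) he).symm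

theorem basisOfBijective_apply {n : ℕ} (e : Fin n → M)
    (he : Function.Bijective (fun c : Fin n → R => ∑ j, c j • e j)) (i : Fin n) :
    basisOfBijective e he i = e i := by
  classical
  unfold basisOfBijective
  rw [Module.Basis.coe_ofEquivFun]
  simp [Fintype.linearCombination_apply, Pi.single_apply]

theorem sum_tmul_injective {n : ℕ} (e : Fin n → M)
    (he : Function.Bijective (fun c : Fin n → R => ∑ j, c j • e j)) :
    Function.Injective (fun x : Fin n → N => ∑ j, e j ⊗ₜ[R] x j) := by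
  classical
  intro x y hxy
  let ℬ := basisOfBijective e he
  have key : ∀ z : Fin n → N, (TensorProduct.equivFinsuppOfBasisLeft ℬ)
      (∑ j, e j ⊗ₜ[R] z j) = Finsupp.equivFunOnFinite.symm z := by
    intro z
    rw [← LinearEquiv.eq_symm_apply, TensorProduct.equivFinsuppOfBasisLeft_symm_apply,
      Finsupp.sum_fintype _ _ (by simp)]
    refine Finset.sum_congr rfl fun j _ => ?_
    rw [basisOfBijective_apply]
    rfl
  have h1 := congrArg (TensorProduct.equivFinsuppOfBasisLeft ℬ) hxy
  simp only [key] at h1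
  exact Finsupp.equivFunOnFinite.symm.injective h1

theorem sum_tmul_surjective {n : ℕ} (e : Fin n → M)
    (he : ∀ m : M, ∃ c : Fin n → R, m = ∑ j, c j • e j) (z : M ⊗[R] N) :
    ∃ a : Fin n → N, z = ∑ j, e j ⊗ₜ[R] a j := by
  induction z using TensorProduct.induction_on with
  | zero => exact ⟨0, by simp⟩
  | tmul m x =>
    obtain ⟨c, rfl⟩ := he m
    refine ⟨fun j => c j • x, ?_⟩
    rw [TensorProduct.sum_tmul]
    refine Finset.sum_congr rfl fun j _ => ?_
    rw [TensorProduct.smul_tmul]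
  | add z z' hz hz' =>
    obtain ⟨a, rfl⟩ := hz
    obtain ⟨a', rfl⟩ := hz'
    refine ⟨a + a', ?_⟩
    simp only [Pi.add_apply, TensorProduct.tmul_add, Finset.sum_add_distrib]

end Algebra

variable {X : Scheme.{u}} (A B : X.Modules)

/-- sections of the presheaf tensor product -/
abbrev PT (W : X.Opens) : Type u :=
  ((show X.PresheafOfModules from CohB1.tensorPre A B).obj (op W) : Type u)

/-- restriction in the presheaf tensor product -/
def pres {W W' : X.Opens} (h : W' ≤ W) (z : PT A B W) : PT A B W' :=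
  (show X.PresheafOfModules from CohB1.tensorPre A B).map (homOfLE h).op z

theorem ηT_res {W W' : X.Opens} (h : W' ≤ W) (z : PT A B W) :
    res (CohB1.tensorMod A B) h ((ηT A B).app (op W) z) = (ηT A B).app (op W') (pres A B h z) :=
  (PresheafOfModules.naturality_apply (ηT A B) (homOfLE h).op z).symm

theorem pres_ptmul {W W' : X.Opens} (h : W' ≤ W) (a : Γ(A, W)) (b : Γ(B, W)) :
    pres A B h (ptmul A B a b) = ptmul A B (res A h a) (res B h b) := rfl

theorem pres_add {W W' : X.Opens} (h : W' ≤ W) (z z' : PT A B W) :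
    pres A B h (z + z') = pres A B h z + pres A B h z' := map_add _ _ _

theorem pres_sum {W W' : X.Opens} (h : W' ≤ W) {ι : Type*} (s : Finset ι) (z : ι → PT A B W) :
    pres A B h (∑ i ∈ s, z i) = ∑ i ∈ s, pres A B h (z i) := map_sum _ _ _

/-- the sheafification map of the tensor product is locally injective -/
theorem ηT_locInj {W : X.Opens} (z z' : PT A B W)
    (h : (ηT A B).app (op W) z = (ηT A B).app (op W) z') (pt : X) (hpt : pt ∈ W) :
    ∃ (V : X.Opens) (hV : V ≤ W), pt ∈ V ∧ pres A B hV z = pres A B hV z' := by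
  have hli : Presheaf.IsLocallyInjective (Opens.grothendieckTopology X)
      (CategoryTheory.toSheafify (Opens.grothendieckTopology X)
        (show X.PresheafOfModules from CohB1.tensorPre A B).presheaf) := inferInstance
  have h1 := hli.equalizerSieve_mem (X := op W) z z' h
  rw [Opens.mem_grothendieckTopology] at h1
  obtain ⟨V, i, hz, hptV⟩ := h1 pt hpt
  exact ⟨V, i.le, hptV, hz⟩

variable {A B}
variable {U : X.Opens} {n : ℕ} {σ : Fin n → Γ(A, U)}

theorem freeBasis_bij (hσ : IsFreeBasisOn A U σ) :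
    Function.Bijective (fun c : Fin n → Γ(X, U) => (∑ j, c j • σ j : Γ(A, U))) := by
  have h := hσ U le_rfl
  simp only [res_self] at h
  exact h

/-- presheaf level: `∑ σ_j ⊗ b_j` determines `b` -/
theorem ptmul_sum_injective (hσ : IsFreeBasisOn A U σ) (b b' : Fin n → Γ(B, U))
    (h : (∑ j, ptmul A B (σ j) (b j) : PT A B U) = ∑ j, ptmul A B (σ j) (b' j)) : b = b' :=
  sum_tmul_injective (R := Γ(X, U)) (M := Γ(A, U)) (N := Γ(B, U)) σ (freeBasis_bij hσ) h

theorem ηT_sum_ptmul {W : X.Opens} (a : Fin n → Γ(A, W)) (b : Fin n → Γ(B, W)) :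
    (ηT A B).app (op W) (∑ j, ptmul A B (a j) (b j)) = ∑ j, tmulSec A B (a j) (b j) :=
  map_sum _ _ _

theorem res_sum_tmulSec {W W' : X.Opens} (h : W' ≤ W) (a : Fin n → Γ(A, W)) (b : Fin n → Γ(B, W)) :
    res (CohB1.tensorMod A B) h (∑ j, tmulSec A B (a j) (b j)) =
      ∑ j, tmulSec A B (res A h (a j)) (res B h (b j)) := by
  have := map_sum (ConcreteCategory.hom ((CohB1.tensorMod A B).presheaf.map (homOfLE h).op))
    (fun j => tmulSec A B (a j) (b j)) Finset.univ
  refine this.trans ?_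
  exact Finset.sum_congr rfl fun j _ => tmulSec_res A B h (a j) (b j)

/-- `(b_j) ↦ ∑ σ_j ⊗ b_j` is injective -/
theorem tmulSec_sum_injective (hσ : IsFreeBasisOn A U σ) (b b' : Fin n → Γ(B, U))
    (h : ∑ j, tmulSec A B (σ j) (b j) = ∑ j, tmulSec A B (σ j) (b' j)) : b = b' := by
  have hz : (ηT A B).app (op U) (∑ j, ptmul A B (σ j) (b j)) =
      (ηT A B).app (op U) (∑ j, ptmul A B (σ j) (b' j)) := by
    rw [ηT_sum_ptmul, ηT_sum_ptmul]
    exact h
  have hloc : ∀ pt : U, ∃ (V : X.Opens) (hV : V ≤ U), pt.1 ∈ V ∧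
      ∀ j, res B hV (b j) = res B hV (b' j) := by
    intro pt
    obtain ⟨V, hV, hptV, hzV⟩ := ηT_locInj A B _ _ hz pt.1 pt.2
    refine ⟨V, hV, hptV, fun j => ?_⟩
    rw [pres_sum, pres_sum] at hzV
    simp only [pres_ptmul] at hzV
    exact congrFun (ptmul_sum_injective (hσ.mono hV) (fun j => res B hV (b j))
      (fun j => res B hV (b' j)) hzV) j
  choose V hV hptV hres using hloc
  funext j
  refine eq_of_locally_eq B V U hV ?_ _ _ (fun pt => hres pt j)
  intro x hx
  exact Opens.mem_iSup.2 ⟨⟨x, hx⟩, hptV ⟨x, hx⟩⟩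

/-- `(b_j) ↦ ∑ σ_j ⊗ b_j` is bijective -/
theorem tmulSec_sum_bijective (hσ : IsFreeBasisOn A U σ) :
    Function.Bijective (fun b : Fin n → Γ(B, U) => ∑ j, tmulSec A B (σ j) (b j)) := by
  refine ⟨fun b b' h => tmulSec_sum_injective hσ b b' h, fun t => ?_⟩
  have hloc : ∀ pt : U, ∃ (V : X.Opens) (hV : V ≤ U), pt.1 ∈ V ∧
      ∃ a : Fin n → Γ(B, V), res (CohB1.tensorMod A B) hV t =
        ∑ j, tmulSec A B (res A hV (σ j)) (a j) := by
    intro pt
    obtain ⟨V, hV, hptV, z, hz⟩ := exists_ηT_eq A B t pt.1 pt.2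
    refine ⟨V, hV, hptV, ?_⟩
    obtain ⟨a, ha⟩ := sum_tmul_surjective (R := Γ(X, V)) (M := Γ(A, V)) (N := Γ(B, V))
      (fun j => res A hV (σ j)) (fun m => by
        obtain ⟨c, hc⟩ := (freeBasis_bij (hσ.mono hV)).2 m
        exact ⟨c, hc.symm⟩) z
    refine ⟨a, hz.symm.trans ?_⟩
    have hz' : z = (∑ j, ptmul A B (res A hV (σ j)) (a j) : PT A B V) := ha
    rw [hz', ηT_sum_ptmul]
  choose V hV hptV a ha using hloc
  have hcompat : ∀ (p q : U) (j : Fin n),
      res B (inf_le_left : V p ⊓ V q ≤ V p) (a p j) = res B (inf_le_right : V p ⊓ V q ≤ V q) (a q j) := by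
    intro p q j
    have h1 := congrArg (res (CohB1.tensorMod A B) (inf_le_left : V p ⊓ V q ≤ V p)) (ha p)
    have h2 := congrArg (res (CohB1.tensorMod A B) (inf_le_right : V p ⊓ V q ≤ V q)) (ha q)
    rw [res_res, res_sum_tmulSec] at h1 h2
    simp only [res_res] at h1 h2
    have h3 := h1.symm.trans h2
    exact congrFun (tmulSec_sum_injective (hσ.mono (inf_le_left.trans (hV p)))
      (fun j => res B (inf_le_left : V p ⊓ V q ≤ V p) (a p j))
      (fun j => res B (inf_le_right : V p ⊓ V q ≤ V q) (a q j)) h3) j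
  have hcover : U ≤ iSup V := by
    intro x hx
    exact Opens.mem_iSup.2 ⟨⟨x, hx⟩, hptV ⟨x, hx⟩⟩
  have hglue : ∀ j, ∃ bj : Γ(B, U), ∀ p, res B (hV p) bj = a p j := fun j =>
    exists_gluing B V U hV hcover (fun p => a p j) (fun p q => hcompat p q j)
  choose b hb using hglue
  refine ⟨b, ?_⟩
  refine eq_of_locally_eq (CohB1.tensorMod A B) V U hV hcover _ _ (fun p => ?_)
  show res _ (hV p) (∑ j, tmulSec A B (σ j) (b j)) = _
  rw [res_sum_tmulSec, ha p]
  simp only [hb]

end Groth.Agent.Lib.Helper23.ProjF
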